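import Mathlib
import Groth.Agent.S0595

/-! Kähler differentials of a regular ring of characteristic `p` are flat. -/

set_option autoImplicit false

noncomputable section

universe u

open TensorProduct KaehlerDifferential

namespace Groth.Agent.FlatWedgeLib

/-- A finite set controls when a formal differential dies. -/
lemma exists_finset_kerTotal (S : Type u) [CommRing S] {w : S →₀ S}
    (hw : w ∈ KaehlerDifferential.kerTotal ℤ S) :
    ∃ T : Finset S, ∀ (E : Type u) [AddCommGroup E] [Module S E] (δ : S → E),
      (∀ x ∈ T, ∀ y ∈ T, δ (x + y) = δ x + δ y ∧ δ (x * y) = x • δ y + y • δ x) →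
      (∀ n : ℤ, δ n = 0) → Finsupp.linearCombination S δ w = 0 := by
  classical
  induction hw using Submodule.span_induction with
  | mem w hw =>
    rcases hw with (⟨⟨x, y⟩, rfl⟩ | ⟨⟨x, y⟩, rfl⟩) | ⟨n, rfl⟩
    · refine ⟨{x, y}, fun E _ _ δ hδ _ => ?_⟩
      simp [(hδ x (by simp) y (by simp)).1]
    · refine ⟨{x, y}, fun E _ _ δ hδ _ => ?_⟩
      simp [(hδ x (by simp) y (by simp)).2, add_comm]
    · refine ⟨∅, fun E _ _ δ _ h => ?_⟩
      simp [h n]
  | zero => exact ⟨∅, fun E _ _ δ _ _ => map_zero _⟩
  | add x y _ _ hx hy =>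
    obtain ⟨S₁, h1⟩ := hx
    obtain ⟨S₂, h2⟩ := hy
    refine ⟨S₁ ∪ S₂, fun E _ _ δ hδ hn => ?_⟩
    rw [map_add, h1 E δ (fun a ha b hb => hδ a (Finset.mem_union_left _ ha) b (Finset.mem_union_left _ hb)) hn,
      h2 E δ (fun a ha b hb => hδ a (Finset.mem_union_right _ ha) b (Finset.mem_union_right _ hb)) hn,
      add_zero]
  | smul c x _ hx =>
    obtain ⟨S₁, h1⟩ := hx
    exact ⟨S₁, fun E _ _ δ hδ hn => by rw [map_smul, h1 E δ hδ hn, smul_zero]⟩

/-- `Ω[A/ℤ]` is flat when every finite type `K`-algebra map to `A` factors through a smooth one. -/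
theorem flat_kaehler (K : Type u) [Field K] (hK : Function.Surjective (algebraMap ℤ K))
    (A : Type u) [CommRing A] [Algebra K A]
    (hpop : ∀ (C : Type u) [CommRing C] [Algebra K C] [Algebra.FinitePresentation K C] (f : C →ₐ[K] A),
      ∃ (B : Type u) (_ : CommRing B) (_ : Algebra K B), Algebra.Smooth K B ∧
        ∃ (g : C →ₐ[K] B) (h : B →ₐ[K] A), h.comp g = f) :
    Module.Flat A (KaehlerDifferential ℤ A) := by
  classical
  refine Module.Flat.of_forall_isTrivialRelation fun {l f z} hz => ?_
  choose z' hz' using fun i => KaehlerDifferential.linearCombination_surjective ℤ A (z i)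
  have hw : ∑ i, f i • z' i ∈ KaehlerDifferential.kerTotal ℤ A := by
    rw [← KaehlerDifferential.kerTotal_eq, LinearMap.mem_ker]
    simp only [map_sum, map_smul, hz', hz]
  obtain ⟨T, hT⟩ := exists_finset_kerTotal A hw
  set U : Finset A := T ∪ Finset.univ.biUnion fun i => (z' i).support
  let C := Algebra.adjoin K (U : Set A)
  haveI : Algebra.FiniteType K C := (Subalgebra.fg_iff_finiteType C).1 (Subalgebra.fg_adjoin_finset U)
  haveI : Algebra.FinitePresentation K C := Algebra.FinitePresentation.of_finiteType.1 inferInstance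
  obtain ⟨B, _, _, hB, g, h, hgh⟩ := hpop C C.val
  letI : Algebra B A := h.toRingHom.toAlgebra
  haveI : IsScalarTower K B A := IsScalarTower.of_algebraMap_eq fun c => (h.commutes c).symm
  -- `Ω[B/ℤ] = Ω[B/K]` is projective
  haveI : Module.Projective B (KaehlerDifferential ℤ B) := by
    let e : KaehlerDifferential ℤ B →ₗ[B] KaehlerDifferential K B := KaehlerDifferential.map ℤ K B B
    have hsurj : Function.Surjective e := KaehlerDifferential.map_surjective ℤ K B
    have hinj : Function.Injective e := by
      refine (injective_iff_map_eq_zero e).2 fun w hw => ?_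
      have hex := KaehlerDifferential.exact_mapBaseChange_map ℤ K B
      obtain ⟨v, rfl⟩ := (hex w).1 hw
      induction v with
      | zero => simp
      | add v v' hv hv' =>
        rw [map_add, hv (hex.apply_apply_eq_zero v), hv' (hex.apply_apply_eq_zero v'), add_zero]
      | tmul b v =>
        clear hw
        have : v = 0 := by
          have hv : v ∈ Submodule.span K (Set.range (KaehlerDifferential.D ℤ K)) := by
            rw [KaehlerDifferential.span_range_derivation]; trivial
          induction hv using Submodule.span_induction with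
          | mem v hv =>
            obtain ⟨c, rfl⟩ := hv
            obtain ⟨n, rfl⟩ := hK c
            exact Derivation.map_algebraMap _ n
          | zero => rfl
          | add a b _ _ ha hb => rw [ha, hb, add_zero]
          | smul c a _ ha => rw [ha, smul_zero]
        rw [this, tmul_zero, map_zero]
    exact Module.Projective.of_equiv (LinearEquiv.ofBijective e ⟨hinj, hsurj⟩).symm
  -- the lifted differentials
  let δ : A → A ⊗[B] KaehlerDifferential ℤ B := fun x =>
    if hx : x ∈ C then (1 : A) ⊗ₜ KaehlerDifferential.D ℤ B (g ⟨x, hx⟩) else 0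
  have hsmul : ∀ (x : A) (hx : x ∈ C) (v : KaehlerDifferential ℤ B),
      (1 : A) ⊗ₜ[B] (g ⟨x, hx⟩ • v) = x • ((1 : A) ⊗ₜ[B] v) := fun x hx v => by
    rw [tmul_smul, smul_tmul', smul_tmul', Algebra.smul_def, smul_eq_mul,
      show algebraMap B A (g ⟨x, hx⟩) = x from AlgHom.congr_fun hgh ⟨x, hx⟩]
  have hzero := hT (A ⊗[B] KaehlerDifferential ℤ B) δ (fun x hx y hy => by
    have hx' : x ∈ C := Algebra.subset_adjoin (Finset.mem_coe.2 (Finset.mem_union_left _ hx))
    have hy' : y ∈ C := Algebra.subset_adjoin (Finset.mem_coe.2 (Finset.mem_union_left _ hy))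
    simp only [δ, dif_pos hx', dif_pos hy', dif_pos (add_mem hx' hy'), dif_pos (mul_mem hx' hy')]
    refine ⟨?_, ?_⟩
    · rw [← tmul_add, ← map_add, ← map_add]; rfl
    · rw [← hsmul x hx', ← hsmul y hy', ← tmul_add, ← Derivation.leibniz, ← map_mul]; rfl)
    (fun n => by
      simp only [δ, dif_pos (intCast_mem C n)]
      rw [show g ⟨(n : A), intCast_mem C n⟩ = (n : B) from map_intCast g n, Derivation.map_intCast,
        tmul_zero])
  simp only [map_sum, map_smul] at hzero
  obtain ⟨m, a, y, hy, hay⟩ := Module.Flat.isTrivialRelation_of_sum_smul_eq_zero hzero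
  refine ⟨m, a, fun j => KaehlerDifferential.mapBaseChange ℤ B A (y j), fun i => ?_, hay⟩
  have h1 : KaehlerDifferential.mapBaseChange ℤ B A (Finsupp.linearCombination A δ (z' i)) = z i := by
    rw [← hz' i, Finsupp.linearCombination_apply, Finsupp.linearCombination_apply, Finsupp.sum,
      Finsupp.sum, map_sum]
    refine Finset.sum_congr rfl fun x hx => ?_
    have hx' : x ∈ C := Algebra.subset_adjoin (Finset.mem_coe.2
      (Finset.mem_union_right _ (Finset.mem_biUnion.2 ⟨i, Finset.mem_univ i, hx⟩)))
    rw [map_smul]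
    congr 1
    simp only [δ, dif_pos hx', KaehlerDifferential.mapBaseChange_tmul, one_smul,
      KaehlerDifferential.map_D]
    rw [show algebraMap B A (g ⟨x, hx'⟩) = x from AlgHom.congr_fun hgh ⟨x, hx'⟩]
  have e : Finsupp.linearCombination A δ (z' i) = ∑ j, a i j • y j := hy i
  rw [← h1, e]
  simp only [map_sum, map_smul]

end Groth.Agent.FlatWedgeLib
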