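import Mathlib
import Groth.Agent.DeRhamLib.Quot

/-! Exterior powers of flat modules are flat. -/

set_option autoImplicit false

noncomputable section

universe u

open exteriorPower

namespace Groth.Agent.FlatWedgeLib

variable {A : Type u} [CommRing A] {M : Type u} [AddCommGroup M] [Module A M]

/-- A finite set controls when an element of an exterior power dies. -/
lemma exists_finset_kill {F : Type u} [AddCommGroup F] [Module A F] (π : F →ₗ[A] M)
    (hπ : Function.Surjective π) (p : ℕ) {w : ↥(⋀[A]^p F)} (hw : exteriorPower.map p π w = 0) :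
    ∃ S : Finset F, (∀ x ∈ S, π x = 0) ∧
      ∀ (G : Type u) [AddCommGroup G] [Module A G] (g : F →ₗ[A] G),
        (∀ x ∈ S, g x = 0) → exteriorPower.map p g w = 0 := by
  classical
  have h := DeRhamLib.ker_map_le π hπ p (LinearMap.mem_ker.2 hw)
  clear hw
  induction h using Submodule.span_induction with
  | mem x hx =>
    obtain ⟨v, i, hvi, rfl⟩ := hx
    refine ⟨{v i}, by simpa using hvi, fun G _ _ g hg => ?_⟩
    rw [map_apply_ιMulti]
    exact AlternatingMap.map_coord_zero _ i (hg _ (Finset.mem_singleton_self _))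
  | zero => exact ⟨∅, by simp, fun G _ _ g _ => map_zero _⟩
  | add x y _ _ hx hy =>
    obtain ⟨S, hS, hS'⟩ := hx
    obtain ⟨T, hT, hT'⟩ := hy
    refine ⟨S ∪ T, fun z hz => (Finset.mem_union.1 hz).elim (hS z) (hT z), fun G _ _ g hg => ?_⟩
    rw [map_add, hS' G g fun z hz => hg z (Finset.mem_union_left _ hz),
      hT' G g fun z hz => hg z (Finset.mem_union_right _ hz), add_zero]
  | smul c x _ hx =>
    obtain ⟨S, hS, hS'⟩ := hx
    exact ⟨S, hS, fun G _ _ g hg => by rw [map_smul, hS' G g hg, smul_zero]⟩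

/-- A finite set controls the image of an element of an exterior power. -/
lemma exists_finset_image {F : Type u} [AddCommGroup F] [Module A F] (π : F →ₗ[A] M) (p : ℕ)
    (w : ↥(⋀[A]^p F)) : ∃ S : Finset F,
      ∀ (G : Type u) [AddCommGroup G] [Module A G] (g : F →ₗ[A] G) (y : G →ₗ[A] M),
        (∀ x ∈ S, y (g x) = π x) →
          exteriorPower.map p y (exteriorPower.map p g w) = exteriorPower.map p π w := by
  classical
  have h : w ∈ Submodule.span A (Set.range (ιMulti A p (M := F))) := by
    rw [exteriorPower.ιMulti_span]; trivial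
  induction h using Submodule.span_induction with
  | mem x hx =>
    obtain ⟨v, rfl⟩ := hx
    refine ⟨Finset.univ.image v, fun G _ _ g y hg => ?_⟩
    rw [map_apply_ιMulti, map_apply_ιMulti, map_apply_ιMulti]
    congr 1
    funext i
    exact hg _ (Finset.mem_image_of_mem v (Finset.mem_univ i))
  | zero => exact ⟨∅, fun G _ _ g y _ => by simp⟩
  | add x y _ _ hx hy =>
    obtain ⟨S, hS⟩ := hx
    obtain ⟨T, hT⟩ := hy
    refine ⟨S ∪ T, fun G _ _ g z hg => ?_⟩
    simp only [map_add, hS G g z fun x hx => hg x (Finset.mem_union_left _ hx),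
      hT G g z fun x hx => hg x (Finset.mem_union_right _ hx)]
  | smul c x _ hx =>
    obtain ⟨S, hS⟩ := hx
    exact ⟨S, fun G _ _ g z hg => by simp only [map_smul, hS G g z hg]⟩

/-- Exterior powers of flat modules are flat. -/
theorem flat_exteriorPower [Module.Flat A M] (p : ℕ) : Module.Flat A ↥(⋀[A]^p M) := by
  classical
  refine Module.Flat.of_forall_isTrivialRelation fun {l f z} hz => ?_
  set π : (M →₀ A) →ₗ[A] M := Finsupp.linearCombination A id with hπdef
  have hπ : Function.Surjective π := fun m => ⟨Finsupp.single m 1, by simp [hπdef]⟩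
  choose z' hz' using fun i => exteriorPower.map_surjective (n := p) hπ (z i)
  have hw : exteriorPower.map p π (∑ i, f i • z' i) = 0 := by
    simp only [map_sum, map_smul, hz', hz]
  obtain ⟨S₀, hS₀, hkill⟩ := exists_finset_kill π hπ p hw
  choose S hS using fun i => exists_finset_image π p (z' i)
  let T : Finset M := (S₀ ∪ Finset.univ.biUnion S).biUnion Finsupp.support
  let inc : (T →₀ A) →ₗ[A] (M →₀ A) := Finsupp.lmapDomain A A ((↑) : T → M)
  let res : (M →₀ A) →ₗ[A] (T →₀ A) := Finsupp.lcomapDomain ((↑) : T → M) Subtype.val_injective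
  have hres : ∀ x ∈ S₀ ∪ Finset.univ.biUnion S, inc (res x) = x := by
    intro x hx
    refine Finsupp.mapDomain_comapDomain _ Subtype.val_injective x fun m hm => ?_
    exact ⟨⟨m, Finset.mem_biUnion.2 ⟨x, hx, Finset.mem_coe.1 hm⟩⟩, rfl⟩
  let K : Submodule A (T →₀ A) := Submodule.span A (S₀.image res : Set (T →₀ A))
  haveI : Module.Finite A K := Module.Finite.iff_fg.2 ⟨S₀.image res, rfl⟩
  have hcomp : (π ∘ₗ inc) ∘ₗ K.subtype = 0 := by
    refine LinearMap.ext fun ⟨y, hy⟩ => ?_
    refine (Submodule.span_le (p := LinearMap.ker (π ∘ₗ inc))).2 ?_ hy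
    intro y hy
    obtain ⟨x, hx, rfl⟩ := Finset.mem_image.1 (Finset.mem_coe.1 hy)
    show π (inc (res x)) = 0
    rw [hres x (Finset.mem_union_left _ hx), hS₀ x hx]
  haveI : Module.Finite A (T →₀ A) := inferInstance
  obtain ⟨k, a, y, hya, hak⟩ := Module.Flat.exists_factorization_of_comp_eq_zero_of_free
    (R := A) (M := M) (K := K) (N := T →₀ A) (f := K.subtype) (x := π ∘ₗ inc) hcomp
  let g : (M →₀ A) →ₗ[A] (Fin k →₀ A) := a ∘ₗ res
  have hgS : ∀ x ∈ S₀, g x = 0 := fun x hx =>
    LinearMap.congr_fun hak ⟨res x, Submodule.subset_span (Finset.mem_coe.2 (Finset.mem_image_of_mem res hx))⟩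
  have hzero : ∑ i, f i • exteriorPower.map p g (z' i) = 0 := by
    have := hkill (Fin k →₀ A) g hgS
    simpa only [map_sum, map_smul] using this
  have himg : ∀ i, exteriorPower.map p y (exteriorPower.map p g (z' i)) = z i := fun i => by
    rw [hS i _ g y fun x hx => ?_, hz']
    have hx' : x ∈ S₀ ∪ Finset.univ.biUnion S :=
      Finset.mem_union_right _ (Finset.mem_biUnion.2 ⟨i, Finset.mem_univ i, hx⟩)
    show y (a (res x)) = π x
    rw [← LinearMap.comp_apply, ← hya, LinearMap.comp_apply, hres x hx']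
  obtain ⟨m, b, w, hw, hb⟩ := Module.Flat.isTrivialRelation_of_sum_smul_eq_zero hzero
  exact ⟨m, b, fun j => exteriorPower.map p y (w j),
    fun i => by
      have e : exteriorPower.map p g (z' i) = ∑ j, b i j • w j := hw i
      rw [← himg i, e]; simp only [map_sum, map_smul], hb⟩

end Groth.Agent.FlatWedgeLib
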